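import Groth.Agent.Lib.ParaLocal.Spread
import Groth.Agent.Lib.ParaPair.Descent
import Groth.Agent.Lib.Depth.HartogsMod
import Mathlib.Algebra.Category.ModuleCat.Sheaf.PullbackFree
import Groth.Prelude.Def_ParaF

/-!
# A parafactorial pair has parafactorial local rings
-/

set_option autoImplicit false
set_option linter.all false
set_option backward.isDefEq.respectTransparency false
set_option maxHeartbeats 1000000

universe u

open CategoryTheory CategoryTheory.Limits AlgebraicGeometry Opposite TopologicalSpace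
open GrothLib.InvExt (IsGen mres fres)

noncomputable section

namespace GrothLib.ParaLocal

/-- The pullback of the structure module. -/
def pullUnit {X Y : Scheme.{u}} (f : X ⟶ Y) :
    (Scheme.Modules.pullback f).obj (Coh.structureModule Y) ≅ Coh.structureModule X :=
  haveI : (SheafOfModules.pushforward.{u} f.toRingCatSheafHom).IsRightAdjoint :=
    (Scheme.Modules.pullbackPushforwardAdjunction f).isRightAdjoint
  @asIso _ _ _ _ (SheafOfModules.pullbackObjUnitToUnit f.toRingCatSheafHom)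
    (SheafOfModules.instIsIsoPullbackObjUnitToUnitOfFinal (F := Opens.map f.base) f.toRingCatSheafHom)

variable {X : Scheme.{u}} [IsLocallyNoetherian X]

theorem isCompact_of_le_affine {V' T : X.Opens} (hV' : IsAffineOpen V') (hT : T ≤ V') :
    IsCompact (T : Set X) := by
  haveI : IsAffine (V' : Scheme.{u}) := hV'
  haveI : IsNoetherian (V' : Scheme.{u}) := {}
  have h : IsCompact ((V'.ι ⁻¹ᵁ T : (V' : Scheme.{u}).Opens) : Set (V' : Scheme.{u})) :=
    NoetherianSpace.isCompact _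
  have h2 := h.image V'.ι.continuous
  rwa [Scheme.Hom.coe_preimage, Set.image_preimage_eq_inter_range, Scheme.Opens.range_ι,
    Set.inter_eq_left.2 (SetLike.coe_subset_coe.2 hT)] at h2

/-- Restriction maps which are bijective stay so on the local scheme at a point. -/
theorem bijective_fres_preimage {V' : X.Opens} (hV' : IsAffineOpen V') {y : X} (hy : y ∈ V') {T T' : X.Opens}
    (hT : T ≤ V') (hT' : T' ≤ T) (h : Function.Bijective (fres X hT')) :
    Function.Bijective (fres (Spec (X.presheaf.stalk y)) ((X.fromSpecStalk y).preimage_mono hT')) := by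
  let φ := X.fromSpecStalk y
  haveI : Flat φ := flat_fromSpecStalk y
  have sq : IsPullback φ (𝟙 (Spec (X.presheaf.stalk y))) (𝟙 X) φ := IsPullback.of_vert_isIso ⟨by simp⟩
  have hV'T : (⊤ : (Spec (X.presheaf.stalk y)).Opens) ≤ φ ⁻¹ᵁ V' := le_preimage_fromSpecStalk hy
  have hqs : IsQuasiSeparated ((V' : X.Opens) : Set X) := hV'.isQuasiSeparated
  have po : ∀ (U : X.Opens) (hU : U ≤ V'), IsPushout (X.presheaf.map (homOfLE hU).op) (φ.appLE V' ⊤ hV'T)
      (φ.appLE U (φ ⁻¹ᵁ U) le_rfl) ((Spec (X.presheaf.stalk y)).presheaf.map (homOfLE (le_top : φ ⁻¹ᵁ U ≤ ⊤)).op) := by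
    intro U hU
    have hiso := isIso_pushoutSection_of_isQuasiSeparated_of_flat_right sq
      (US := V') (UT := ⊤) (UX := U) (UY := φ ⁻¹ᵁ U) hV'T (by simpa using hU) (by simp) hV' (isAffineOpen_top _)
      (isCompact_of_le_affine hV' hU) (hqs.of_subset (SetLike.coe_subset_coe.2 hU))
    have h2 := (isIso_pushoutSection_iff sq (US := V') (UT := ⊤) (UX := U) (UY := φ ⁻¹ᵁ U) hV'T (by simpa using hU)
      (by simp)).1 hiso
    have e1 : ∀ {Z : Scheme.{u}} (A B : Z.Opens) (hh : B ≤ 𝟙 Z ⁻¹ᵁ A) (hh' : B ≤ A),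
        (𝟙 Z : Z ⟶ Z).appLE A B hh = Z.presheaf.map (homOfLE hh').op := fun {Z} A B hh hh' => by
      simp [Scheme.Hom.appLE]
    rw [e1 V' U _ hU, e1 ⊤ (φ ⁻¹ᵁ U) _ le_top] at h2
    exact h2
  have pT := po T hT
  have pT' := po T' (hT'.trans hT)
  have hcomm : φ.appLE T (φ ⁻¹ᵁ T) le_rfl ≫ (Spec (X.presheaf.stalk y)).presheaf.map (homOfLE (φ.preimage_mono hT')).op =
      X.presheaf.map (homOfLE hT').op ≫ φ.appLE T' (φ ⁻¹ᵁ T') le_rfl := by
    rw [Scheme.Hom.appLE_map, Scheme.Hom.map_appLE]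
  have pp : IsPushout (X.presheaf.map (homOfLE hT').op) (φ.appLE T (φ ⁻¹ᵁ T) le_rfl) (φ.appLE T' (φ ⁻¹ᵁ T') le_rfl)
      ((Spec (X.presheaf.stalk y)).presheaf.map (homOfLE (φ.preimage_mono hT')).op) := by
    refine IsPushout.of_left ?_ hcomm.symm pT
    rw [← Functor.map_comp, ← Functor.map_comp]
    exact pT'
  haveI : IsIso (X.presheaf.map (homOfLE hT').op) := (ConcreteCategory.isIso_iff_bijective _).2 h
  haveI := pp.isIso_inr_of_isIso
  exact ConcreteCategory.bijective_of_isIso ((Spec (X.presheaf.stalk y)).presheaf.map (homOfLE (φ.preimage_mono hT')).op)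

/-- The open of the local scheme over the complement. -/
theorem secBij_preimage {O : X.Opens} (hO : ParaPair.SecBij O) {V' : X.Opens} (hV' : IsAffineOpen V') {y : X}
    (hy : y ∈ V') : ParaPair.SecBij (X.fromSpecStalk y ⁻¹ᵁ O) := by
  let φ := X.fromSpecStalk y
  letI : Algebra Γ(X, V') (X.presheaf.stalk y) := (X.presheaf.germ V' y hy).hom.toAlgebra
  haveI : IsLocalization.AtPrime (X.presheaf.stalk y) (hV'.primeIdealOf ⟨y, hy⟩).asIdeal :=
    hV'.isLocalization_stalk ⟨y, hy⟩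
  refine ParaPair.secBij_of_affine fun W hW => ?_
  -- affine opens of the local scheme are preimages
  have hbasic : ∀ z ∈ W, ∃ a : Γ(X, V'), z ∈ φ ⁻¹ᵁ X.basicOpen a ∧ φ ⁻¹ᵁ X.basicOpen a ≤ W := by
    intro z hz
    obtain ⟨_, ⟨_, ⟨α, rfl⟩, rfl⟩, hzα, hαW⟩ := PrimeSpectrum.isBasis_basic_opens.exists_subset_of_mem_open
      (a := z) (u := (W : Set (Spec (X.presheaf.stalk y)))) hz W.2
    obtain ⟨⟨a, s⟩, has⟩ := IsLocalization.surj (hV'.primeIdealOf ⟨y, hy⟩).asIdeal.primeCompl α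
    have e : φ ⁻¹ᵁ X.basicOpen a = PrimeSpectrum.basicOpen α := by
      rw [preimage_basicOpen_fromSpecStalk hy a]
      have : X.presheaf.germ V' y hy a = α * algebraMap Γ(X, V') (X.presheaf.stalk y) s.1 := has.symm
      rw [this, map_mul, Scheme.basicOpen_mul,
        Scheme.basicOpen_of_isUnit _
          ((IsLocalization.map_units (X.presheaf.stalk y) s).map (Scheme.ΓSpecIso (X.presheaf.stalk y)).inv.hom),
        inf_top_eq, basicOpen_eq_of_affine', Iso.inv_hom_id_apply]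
    exact ⟨a, by rw [e]; exact hzα, by rw [e]; exact hαW⟩
  choose a hza haW using hbasic
  let T : X.Opens := ⨆ z : W, X.basicOpen (a z.1 z.2)
  have hT : φ ⁻¹ᵁ T = W := by
    refine le_antisymm ?_ fun z hz => ?_
    · rw [Scheme.Hom.preimage_iSup]
      exact iSup_le fun z => haW z.1 z.2
    · show φ z ∈ T
      exact Opens.mem_iSup.2 ⟨⟨z, hz⟩, hza z hz⟩
  have := bijective_fres_preimage hV' hy (iSup_le fun z => X.basicOpen_le _) (inf_le_left : T ⊓ O ≤ T) (hO T)
  have key : ∀ {A B A' B' : (Spec (X.presheaf.stalk y)).Opens} (h₁ : B ≤ A) (h₂ : B' ≤ A'), A = A' → B = B' →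
      Function.Bijective (fres _ h₁) → Function.Bijective (fres _ h₂) := by
    rintro _ _ _ _ h₁ h₂ rfl rfl hb; exact hb
  exact key _ _ hT (by rw [Scheme.Hom.preimage_inf, hT]) this

/-- **The local rings along a parafactorial pair are parafactorial.** -/
theorem isParafactorialLocalRing_of_pair {Y : Closeds X} (h : ParaF.IsParafactorialPair X Y) {y : X} (hy : y ∈ Y) :
    ParaF.IsParafactorialLocalRing (X.presheaf.stalk y) := by
  obtain ⟨hA, hB⟩ := ParaPair.isParafactorialPair_iff.1 h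
  obtain ⟨_, ⟨V', hV', rfl⟩, hyV', -⟩ := X.isBasis_affineOpens.exists_subset_of_mem_open (Set.mem_univ y) isOpen_univ
  let A := X.presheaf.stalk y
  let φ := X.fromSpecStalk y
  let O := φ ⁻¹ᵁ Y.compl
  let P := FEt.puncturedSpec A
  have hS : ParaPair.SecBij O := secBij_preimage hA hV' hyV'
  have hOP : O ≤ P := fun z hz hz' => by
    obtain rfl : z = IsLocalRing.closedPoint A := hz'
    have : φ (IsLocalRing.closedPoint A) ∈ Y.compl := hz
    rw [show φ (IsLocalRing.closedPoint A) = y from Scheme.fromSpecStalk_closedPoint] at this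
    exact this hy
  rw [ParaPair.isParafactorialLocalRing_iff]
  constructor
  · have h1 : Function.Bijective (fres (Spec A) (le_top : O ≤ ⊤)) :=
      (ParaPair.bijective_fres_congr _ _ (top_inf_eq O)).1 (hS ⊤)
    have h2 : Function.Bijective (fres (Spec A) hOP) :=
      (ParaPair.bijective_fres_congr _ _ (inf_eq_right.2 hOP)).1 (hS P)
    have e : fres (Spec A) (le_top : O ≤ ⊤) = fres (Spec A) hOP ∘ fres (Spec A) (le_top : P ≤ ⊤) := by
      funext a
      exact (InvExt.fres_fres _ _ a).symm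
    rw [e, h2.of_comp_iff'] at h1
    exact h1
  intro L hL
  haveI : IsNoetherianRing A := inferInstance
  have hPc : IsCompact (P : Set (Spec A)) := by
    haveI : IsLocallyNoetherian (Spec A) := inferInstance
    exact NoetherianSpace.isCompact _
  obtain ⟨W, k, LW, hWV', hWP, hk, hLW, ⟨eL⟩⟩ := exists_spread hV' hyV' P (fun hc => hc rfl) hPc L hL
  have hgenW : ∀ z : X, z ⤳ y → z ≠ y → z ∈ W := by
    intro z hz hzy
    obtain ⟨z', rfl⟩ : z ∈ Set.range φ := by rw [Scheme.range_fromSpecStalk]; exact hz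
    have : z' ∈ φ ⁻¹ᵁ W := by
      rw [hWP]
      exact fun hc => hzy ((fromSpecStalk_eq_iff y z').2 hc)
    exact this
  obtain ⟨V'', hV'', hV''V', hyV'', hspec⟩ := GrothLib.Depth.exists_nhd_specializes (X := X)
    (W : Set X)ᶜ W.2.isClosed_compl (x := y)
    (fun z hz hzy => by_contra fun hne => hz (hgenW z hzy hne)) hyV'
  have hleW : V'' ⊓ Y.compl ≤ W := fun z hz => by_contra fun hzW =>
    (hspec z hzW hz.1).mem_open Y.compl.2 hz.2 hy
  let U : X.Opens := V'' ⊓ Y.compl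
  let l : (U : Scheme.{u}) ⟶ (W : Scheme.{u}) := X.homOfLE hleW
  obtain ⟨V₀, e, hyV₀, he⟩ := hB (U : Scheme.{u}) U.ι ((Scheme.Modules.pullback l).obj LW)
    (Ample.isInvertible_pullback l hLW) V'' (Scheme.Opens.opensRange_ι U) y hyV''
  let V₁ : X.Opens := V₀ ⊓ U
  obtain ⟨τ⟩ := InvExt.exists_iso_of_gen ((ParaPair.isGen_push_iff U.ι _
    ((inf_le_right : V₁ ≤ U).trans (Scheme.Opens.opensRange_ι U).ge) _).1 (he.restrict (inf_le_left : V₁ ≤ V₀)))
  let U₁ : (U : Scheme.{u}).Opens := U.ι ⁻¹ᵁ V₁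
  let O' : (P : Scheme.{u}).Opens := P.ι ⁻¹ᵁ O
  have hmem : ∀ z : O', φ (P.ι (O'.ι z)) ∈ V₁ := by
    intro z
    have hzy : φ (P.ι (O'.ι z)) ⤳ y := fromSpecStalk_specializes y _
    exact ⟨hzy.mem_open V₀.2 hyV₀, hzy.mem_open V''.2 hyV'', z.2⟩
  let m₀ : (O' : Scheme.{u}) ⟶ (U : Scheme.{u}) := IsOpenImmersion.lift U.ι (O'.ι ≫ P.ι ≫ φ) (by
    rw [U.range_ι]
    rintro _ ⟨z, rfl⟩
    exact (hmem z).2)
  have hm₀ : m₀ ≫ U.ι = O'.ι ≫ P.ι ≫ φ := IsOpenImmersion.lift_fac _ _ _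
  let m : (O' : Scheme.{u}) ⟶ (U₁ : Scheme.{u}) := IsOpenImmersion.lift U₁.ι m₀ (by
    rw [U₁.range_ι]
    rintro _ ⟨z, rfl⟩
    show U.ι (m₀ z) ∈ V₁
    rw [← Scheme.Hom.comp_apply, hm₀]
    exact hmem z)
  have hm : m ≫ U₁.ι = m₀ := IsOpenImmersion.lift_fac _ _ _
  have hmk : m ≫ U₁.ι ≫ l = O'.ι ≫ k := by
    rw [← cancel_mono W.ι, Category.assoc, Category.assoc, Category.assoc, hk, Scheme.homOfLE_ι,
      reassoc_of% hm, hm₀]
  let α : L.restrict O'.ι ≅ Coh.structureModule (O' : Scheme.{u}) :=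
    (Scheme.Modules.restrictFunctorIsoPullback O'.ι).app L ≪≫
      (Scheme.Modules.pullback O'.ι).mapIso eL.symm ≪≫
      (Scheme.Modules.pullbackComp O'.ι k).app LW ≪≫ (Scheme.Modules.pullbackCongr hmk.symm).app LW ≪≫
      ((Scheme.Modules.pullbackComp m (U₁.ι ≫ l)).app LW).symm ≪≫
      (Scheme.Modules.pullback m).mapIso (((Scheme.Modules.pullbackComp U₁.ι l).app LW).symm ≪≫
        ((Scheme.Modules.restrictFunctorIsoPullback U₁.ι).app ((Scheme.Modules.pullback l).obj LW)).symm ≪≫ τ) ≪≫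
      pullUnit m
  have hS' : ParaPair.SecBij O'.ι.opensRange := by
    rw [Scheme.Opens.opensRange_ι]
    exact ParaPair.SecBij.preimage _ hS P.ι
  let F := Scheme.Modules.restrictFunctor O'.ι
  let u' := Scheme.Modules.restrictUnitIso O'.ι
  obtain ⟨φ₁, hφ₁⟩ := (hS'.hom_bijective O'.ι L (ParaPair.isInvertible_structure _)).2 (α.hom ≫ u'.inv)
  obtain ⟨φ₂, hφ₂⟩ := (hS'.hom_bijective O'.ι (Coh.structureModule (P : Scheme.{u})) hL).2 (u'.hom ≫ α.inv)
  refine ⟨⟨φ₁, φ₂, (hS'.hom_bijective O'.ι L hL).1 ?_,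
    (hS'.hom_bijective O'.ι _ (ParaPair.isInvertible_structure _)).1 ?_⟩⟩
  · show F.map (φ₁ ≫ φ₂) = F.map (𝟙 _)
    rw [Functor.map_comp, CategoryTheory.Functor.map_id]
    rw [show F.map φ₁ = _ from hφ₁, show F.map φ₂ = _ from hφ₂]
    simp
  · show F.map (φ₂ ≫ φ₁) = F.map (𝟙 _)
    rw [Functor.map_comp, CategoryTheory.Functor.map_id]
    rw [show F.map φ₁ = _ from hφ₁, show F.map φ₂ = _ from hφ₂]
    simp

end GrothLib.ParaLocal
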