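import Groth.Agent.Lib.Depth.HartogsModConv
import Groth.Agent.Lib.Depth.CM
import Groth.Agent.Lib.ParaPair.Local

/-!
# A local ring whose functions extend uniquely over the closed point has depth at least two
-/

set_option autoImplicit false
set_option linter.all false
set_option backward.isDefEq.respectTransparency false

universe u

open CategoryTheory AlgebraicGeometry TopologicalSpace Opposite IsLocalRing
open scoped Pointwise

namespace GrothLib.ParaLocal

variable {A : Type u} [CommRing A] [IsLocalRing A] [IsNoetherianRing A]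

local notation "𝕊" => Spec (CommRingCat.of A)

theorem two_le_depth_of_bijective
    (h : Function.Bijective ((Spec (CommRingCat.of A)).presheaf.map
      (homOfLE (le_top : FEt.puncturedSpec A ≤ ⊤)).op)) : (2 : ℕ∞) ≤ LocCoh.depth A A := by
  let U := FEt.puncturedSpec A
  let φ : A → Γ(𝕊, U) := fun a =>
    (𝕊).presheaf.map (homOfLE (le_top : U ≤ ⊤)).op ((Scheme.ΓSpecIso (CommRingCat.of A)).inv a)
  have hφ : Function.Bijective φ :=
    h.comp (ConcreteCategory.bijective_of_isIso (Scheme.ΓSpecIso (CommRingCat.of A)).inv)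
  let D : maximalIdeal A → (𝕊).Opens := fun f => (𝕊).basicOpen ((Scheme.ΓSpecIso (CommRingCat.of A)).inv f.1)
  have hD : ∀ f, D f = PrimeSpectrum.basicOpen f.1 := fun f => by
    simp [D, basicOpen_eq_of_affine']
  have hDU : ∀ f, D f ≤ U := fun f y hy => by
    rw [hD] at hy
    intro hy'
    obtain rfl : y = closedPoint A := hy'
    exact hy f.2
  have hcov : U ≤ iSup D := fun y hy => by
    obtain ⟨f, hf, hfy⟩ : ∃ f ∈ maximalIdeal A, f ∉ y.asIdeal := by
      by_contra h'
      push Not at h'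
      exact hy (PrimeSpectrum.ext ((maximalIdeal.isMaximal A).eq_of_le y.2.ne_top h').symm)
    exact Opens.mem_iSup.2 ⟨⟨f, hf⟩, by rw [hD]; exact hfy⟩
  let ψ : ∀ W : (𝕊).Opens, A →+* Γ(𝕊, W) := fun W =>
    ((Scheme.ΓSpecIso (CommRingCat.of A)).inv ≫ (𝕊).presheaf.map (homOfLE (le_top : W ≤ ⊤)).op).hom
  have hres : ∀ (W T : (𝕊).Opens) (hTW : T ≤ W) (a : A),
      (𝕊).presheaf.map (homOfLE hTW).op (ψ W a) = ψ T a := fun W T hTW a => by
    show ((𝕊).presheaf.map (homOfLE (le_top : W ≤ ⊤)).op ≫ (𝕊).presheaf.map (homOfLE hTW).op) _ =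
      (𝕊).presheaf.map (homOfLE (le_top : T ≤ ⊤)).op _
    rw [← Functor.map_comp]
    rfl
  have hunit : ∀ (f : maximalIdeal A) (T : (𝕊).Opens), T ≤ D f → IsUnit (ψ T f.1) := fun f T hT => by
    have := RingedSpace.isUnit_res_basicOpen (𝕊).toRingedSpace ((Scheme.ΓSpecIso (CommRingCat.of A)).inv f.1)
    rw [← hres (D f) T hT]
    exact this.map _
  have hker : ∀ μ : A, (∀ f ∈ maximalIdeal A, f * μ = 0) → μ = 0 := by
    intro μ hμ
    refine hφ.1 ?_
    refine TopCat.Sheaf.eq_of_locally_eq' (𝕊).sheaf D U (fun f => homOfLE (hDU f)) hcov _ _ fun f => ?_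
    refine (hunit f _ le_rfl).mul_left_cancel ?_
    show ψ _ f.1 * (𝕊).presheaf.map _ (ψ U μ) = ψ _ f.1 * (𝕊).presheaf.map _ (ψ U 0)
    rw [hres, hres, ← map_mul, ← map_mul, hμ _ f.2, mul_zero]
  have hne : maximalIdeal A • (⊤ : Submodule A A) ≠ ⊤ :=
    GrothLib.Depth.smul_top_ne_top (maximalIdeal.isMaximal A).ne_top
  obtain ⟨α, hαm, hα⟩ : ∃ α ∈ maximalIdeal A, IsSMulRegular A α := by
    by_contra h'
    push Not at h'
    obtain ⟨μ, hμ, hk⟩ := GrothLib.Depth.exists_killed_of_no_regular h'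
    exact hμ (hker μ hk)
  haveI : Nontrivial (QuotSMulTop α A) := Submodule.Quotient.nontrivial_iff.mpr fun h' => hne
    (top_le_iff.mp fun y _ => by
      have hy : y ∈ α • (⊤ : Submodule A A) := by rw [h']; exact Submodule.mem_top
      obtain ⟨c, -, rfl⟩ := (Submodule.mem_smul_pointwise_iff_exists _ _ _).mp hy
      exact Submodule.smul_mem_smul hαm Submodule.mem_top)
  obtain ⟨β, hβm, hβ⟩ : ∃ β ∈ maximalIdeal A, IsSMulRegular (QuotSMulTop α A) β := by
    by_contra h'
    push Not at h'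
    obtain ⟨μ, hμ, hk⟩ := GrothLib.Depth.exists_killed_of_no_regular h'
    obtain ⟨ν, rfl⟩ := Submodule.Quotient.mk_surjective _ μ
    have hk' : ∀ f : maximalIdeal A, ∃ c : A, f.1 * ν = α * c := fun f => by
      have := hk f.1 f.2
      rw [← Submodule.Quotient.mk_smul, Submodule.Quotient.mk_eq_zero] at this
      obtain ⟨c, -, hc⟩ := (Submodule.mem_smul_pointwise_iff_exists _ _ _).mp this
      exact ⟨c, hc.symm⟩
    choose c hc using hk'
    have hcomm : ∀ f g : maximalIdeal A, f.1 * c g = g.1 * c f := fun f g => by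
      refine hα ?_
      show α * (f.1 * c g) = α * (g.1 * c f)
      rw [mul_left_comm, ← hc, mul_left_comm α, ← hc, mul_left_comm]
    choose sf hsf using fun f => (hunit f (D f) le_rfl).exists_right_inv
    obtain ⟨s, hs, -⟩ := TopCat.Sheaf.existsUnique_gluing' (𝕊).sheaf D U (fun f => homOfLE (hDU f)) hcov
      (fun f => sf f * ψ (D f) (c f)) fun f g => by
        show (𝕊).presheaf.map _ _ = (𝕊).presheaf.map _ _
        have hf := hunit f (D f ⊓ D g) inf_le_left
        have hg := hunit g (D f ⊓ D g) inf_le_right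
        refine (hf.mul hg).mul_left_cancel ?_
        have h1 := congrArg ((𝕊).presheaf.map (Opens.infLELeft (D f) (D g)).op) (hsf f)
        have h2 := congrArg ((𝕊).presheaf.map (Opens.infLERight (D f) (D g)).op) (hsf g)
        rw [map_mul, map_one] at h1 h2
        rw [map_mul, map_mul]
        have r1 : (𝕊).presheaf.map (Opens.infLELeft (D f) (D g)).op (ψ (D f) f.1) = ψ _ f.1 := hres _ _ _ _
        have r2 : (𝕊).presheaf.map (Opens.infLERight (D f) (D g)).op (ψ (D g) g.1) = ψ _ g.1 := hres _ _ _ _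
        have r3 : (𝕊).presheaf.map (Opens.infLELeft (D f) (D g)).op (ψ (D f) (c f)) = ψ _ (c f) := hres _ _ _ _
        have r4 : (𝕊).presheaf.map (Opens.infLERight (D f) (D g)).op (ψ (D g) (c g)) = ψ _ (c g) := hres _ _ _ _
        have r5 : ψ (D f ⊓ D g) f.1 * ψ (D f ⊓ D g) (c g) = ψ (D f ⊓ D g) g.1 * ψ (D f ⊓ D g) (c f) := by
          rw [← map_mul, ← map_mul, hcomm]
        rw [r1] at h1; rw [r2] at h2; rw [r3, r4]
        linear_combination (ψ (D f ⊓ D g) g.1 * ψ (D f ⊓ D g) (c f)) * h1 -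
          (ψ (D f ⊓ D g) f.1 * ψ (D f ⊓ D g) (c g)) * h2 - r5
    obtain ⟨a, rfl⟩ := hφ.2 s
    refine hμ ((Submodule.Quotient.mk_eq_zero _).mpr ?_)
    have : ν = α * a := by
      refine hφ.1 (TopCat.Sheaf.eq_of_locally_eq' (𝕊).sheaf D U (fun f => homOfLE (hDU f)) hcov _ _ fun f => ?_)
      show (𝕊).presheaf.map _ (ψ U ν) = (𝕊).presheaf.map _ (ψ U (α * a))
      rw [hres, hres, map_mul]
      have ha : ψ (D f) a = sf f * ψ (D f) (c f) := (hres U (D f) (hDU f) a).symm.trans (hs f)
      rw [ha]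
      have e := congrArg (ψ (D f)) (hc f)
      rw [map_mul, map_mul] at e
      linear_combination (-ψ (D f) ν) * hsf f + sf f * e
    rw [this]
    exact Submodule.smul_mem_pointwise_smul a α _ trivial
  refine (GrothLib.Depth.le_idealDepth_iff_exists _ hne 2).mpr ⟨[α, β], rfl, ?_, ?_⟩
  · intro r hr
    simp only [List.mem_cons, List.not_mem_nil, or_false] at hr
    rcases hr with rfl | rfl <;> assumption
  · rw [RingTheory.Sequence.isWeaklyRegular_cons_iff, RingTheory.Sequence.isWeaklyRegular_cons_iff]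
    exact ⟨hα, hβ, RingTheory.Sequence.IsWeaklyRegular.nil _ _⟩

end GrothLib.ParaLocal
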