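import Groth.Agent.Lib.ParaLocal.Point
import Groth.Agent.Lib.ParaLocal.Depth
import Groth.Agent.Lib.Depth.HartogsHom
import Groth.Agent.Lib.Depth.HartogsMod
import Groth.Prelude.Def_ParaF

/-!
# Parafactorial local rings give a parafactorial pair
-/

set_option autoImplicit false
set_option linter.all false
set_option backward.isDefEq.respectTransparency false

universe u

open CategoryTheory CategoryTheory.Limits AlgebraicGeometry Opposite TopologicalSpace
open GrothLib.InvExt (IsGen mres fres)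

noncomputable section

namespace GrothLib.ParaLocal

variable {X : Scheme.{u}} [IsLocallyNoetherian X] {Y : Closeds X}
  (h : ∀ y : X, y ∈ Y → ParaF.IsParafactorialLocalRing (X.presheaf.stalk y))

include h

theorem depthTwoOutside : GrothLib.Depth.DepthTwoOutside Y.compl := fun y hy =>
  two_le_depth_of_bijective ((ParaPair.isParafactorialLocalRing_iff _).1 (h y (not_not.mp hy))).1

theorem secBij : ParaPair.SecBij Y.compl := fun W =>
  GrothLib.Depth.res_bijective (depthTwoOutside h) W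

theorem pushInv : ParaPair.PushInv Y.compl := by
  intro U g _ L hL V hr x hx
  let M := (Scheme.Modules.pushforward g).obj L
  have hgO : ∀ u : U, g u ∈ Y.compl := fun u => by
    have : g u ∈ g.opensRange := ⟨u, rfl⟩
    rw [hr] at this
    exact this.2
  have hMbij : ∀ T : X.Opens, Function.Bijective (mres M (inf_le_left : T ⊓ Y.compl ≤ T)) := by
    intro T
    have e : g ⁻¹ᵁ (T ⊓ Y.compl) = g ⁻¹ᵁ T := by ext u; exact and_iff_left (hgO u)
    have key : ∀ {A B : U.Opens} (hle : B ≤ A), B = A →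
        Function.Bijective (L.presheaf.map (homOfLE hle).op) := by
      intro A B hle hAB
      subst hAB
      rw [show (homOfLE hle).op = 𝟙 _ from Subsingleton.elim _ _, L.presheaf.map_id]
      exact Function.bijective_id
    exact key _ e
  let G : X.Opens := ⟨{z | ParaPair.GenNear M z}, by
    rw [isOpen_iff_forall_mem_open]
    rintro z ⟨Vz, e, hz, he⟩
    exact ⟨Vz, fun w hw => ⟨Vz, e, hw, he⟩, Vz.2, hz⟩⟩
  have hVG : V ⊓ Y.compl ≤ G := fun z hz => by
    obtain ⟨u, rfl⟩ : z ∈ g.opensRange := by rw [hr]; exact hz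
    exact ParaPair.genNear_push g (ParaPair.isInvertible_iff.1 hL u)
  by_contra hxG
  obtain ⟨y, hyG, hyx, hymax⟩ := GrothLib.Depth.exists_maximal_generalization (X := X)
    (C := (G : Set X)ᶜ) G.2.isClosed_compl (show x ∈ (G : Set X)ᶜ from hxG)
  have hyV : y ∈ V := hyx.mem_open V.2 hx
  have hyY : y ∈ Y := by
    by_contra hyY
    exact hyG (hVG ⟨hyV, hyY⟩)
  obtain ⟨_, ⟨V', hV', rfl⟩, hyV', hV'V⟩ := X.isBasis_affineOpens.exists_subset_of_mem_open hyV V.2
  let W : X.Opens := G ⊓ V'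
  have hgen : ∀ z : X, z ⤳ y → z ≠ y → z ∈ W := fun z hz hzy =>
    ⟨by_contra fun hzG => hzy (hymax z hzG hz), hz.mem_open V'.2 hyV'⟩
  obtain ⟨Λ, hΛ, e, hΛgen, hΛe⟩ := exists_gen_punctured M hV' hyV' (inf_le_right : W ≤ V')
    (fun hyW => hyG hyW.1) hgen (fun w hw => hw.1)
    ((ParaPair.isParafactorialLocalRing_iff _).1 (h y hyY)).2
  obtain ⟨W'', hW'', hW''V', hyW'', hspec⟩ := GrothLib.Depth.exists_nhd_specializes (X := X)
    (Λ : Set X)ᶜ Λ.2.isClosed_compl (x := y)
    (fun z hz hzy => by_contra fun hne => hz (hΛgen z hzy hne)) hyV'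
  have hWΛ : W'' ⊓ W ≤ Λ := fun z hz => by_contra fun hzΛ =>
    hyG ((hspec z hzΛ hz.1).mem_open W.2 hz.2).1
  have hle : W'' ⊓ Y.compl ≤ W'' ⊓ W := fun z hz =>
    ⟨hz.1, hVG ⟨hV'V (hW''V' hz.1), hz.2⟩, hW''V' hz.1⟩
  obtain ⟨e', he'⟩ := (hMbij W'').2 (mres M (hle.trans (hWΛ.trans hΛ)) e)
  refine hyG ⟨W'', e', hyW'', fun T hT => ?_⟩
  refine ((hMbij T).of_comp_iff' _).1 ?_
  have hb := (hΛe (T ⊓ Y.compl) ((inf_le_inf_right _ hT).trans (hle.trans hWΛ))).comp (secBij h T)
  refine (funext fun c => ?_ : ((mres M (inf_le_left : T ⊓ Y.compl ≤ T)) ∘ fun c : Γ(X, T) => c • mres M hT e') =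
    (fun c : Γ(X, (T ⊓ Y.compl : X.Opens)) => c • mres M ((inf_le_inf_right _ hT).trans (hle.trans hWΛ)) (mres M hΛ e)) ∘
      fres X (inf_le_left : T ⊓ Y.compl ≤ T)) ▸ hb
  simp only [Function.comp_apply, InvExt.mres_smul, InvExt.mres_mres]
  congr 1
  have := congrArg (mres M (inf_le_inf_right Y.compl hT)) he'
  simp only [InvExt.mres_mres] at this
  exact this

/-- Parafactorial local rings along `Y` give a parafactorial pair. -/
theorem isParafactorialPair : ParaF.IsParafactorialPair X Y :=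
  ParaPair.isParafactorialPair_of (secBij h) (pushInv h)

end GrothLib.ParaLocal
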