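import Groth.Agent.Lib.ParaLocal.Sections

/-!
# A generating section at the proper generisations of a point
-/

set_option autoImplicit false
set_option linter.all false
set_option backward.isDefEq.respectTransparency false
set_option maxHeartbeats 1000000

universe u

open CategoryTheory CategoryTheory.Limits AlgebraicGeometry Opposite TopologicalSpace
open GrothLib.InvExt (IsGen mres)

noncomputable section

namespace GrothLib.ParaLocal

variable {X : Scheme.{u}}

theorem isPullback_of_comp_mono {C : Type*} [Category C] {P A B S S' : C} {a : P ⟶ A} {b : P ⟶ B}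
    {f : A ⟶ S} {g : B ⟶ S} (m : S ⟶ S') [Mono m] (h : IsPullback a b (f ≫ m) (g ≫ m)) :
    IsPullback a b f g := by
  refine IsPullback.of_isLimit' ⟨by rw [← cancel_mono m]; simpa using h.w⟩
    (PullbackCone.IsLimit.mk _ (fun s => h.lift s.fst s.snd (by rw [s.condition_assoc]))
      (fun s => h.lift_fst _ _ _) (fun s => h.lift_snd _ _ _) fun s l h₁ h₂ => h.hom_ext ?_ ?_)
  · rw [h.lift_fst]; exact h₁
  · rw [h.lift_snd]; exact h₂

theorem isGen_of_bijective {M N : X.Modules} (φ : M ⟶ N) {V : X.Opens}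
    (hφ : ∀ T ≤ V, Function.Bijective (φ.app T)) {e : Γ(N, V)} (he : IsGen N V e) {e' : Γ(M, V)}
    (he' : φ.app V e' = e) : IsGen M V e' := fun T hT => by
  refine ((hφ T hT).of_comp_iff' _).1 ?_
  have h2 : ((φ.app T : Γ(M, T) → Γ(N, T)) ∘ fun c : Γ(X, T) => c • mres M hT e') =
      fun c : Γ(X, T) => c • mres N hT e := by
    funext c
    rw [Function.comp_apply, Scheme.Modules.Hom.app_smul, ← he']
    congr 1
    exact congr($(φ.mapPresheaf.naturality (homOfLE hT).op) e')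
  rw [h2]
  exact he T hT

theorem fromSpecStalk_eq_iff (y : X) (z : Spec (X.presheaf.stalk y)) :
    X.fromSpecStalk y z = y ↔ z = IsLocalRing.closedPoint (X.presheaf.stalk y) := by
  constructor
  · intro h
    exact (X.fromSpecStalk y).isEmbedding.injective (h.trans Scheme.fromSpecStalk_closedPoint.symm)
  · rintro rfl
    exact Scheme.fromSpecStalk_closedPoint

theorem fromSpecStalk_specializes (y : X) (z : Spec (X.presheaf.stalk y)) : X.fromSpecStalk y z ⤳ y :=
  (congrArg (X.fromSpecStalk y z ∈ ·) (Scheme.range_fromSpecStalk (X := X) (x := y))).mp ⟨z, rfl⟩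

theorem flat_fromSpecStalk (y : X) : Flat (X.fromSpecStalk y) := by
  obtain ⟨_, ⟨U, hU, rfl⟩, hxU, -⟩ :=
    X.isBasis_affineOpens.exists_subset_of_mem_open (Set.mem_univ y) isOpen_univ
  rw [← hU.fromSpecStalk_eq_fromSpecStalk hxU]
  letI : Algebra Γ(X, U) (X.presheaf.stalk y) := (X.presheaf.germ U y hxU).hom.toAlgebra
  haveI : IsLocalization.AtPrime (X.presheaf.stalk y) (hU.primeIdealOf ⟨y, hxU⟩).asIdeal :=
    hU.isLocalization_stalk ⟨y, hxU⟩
  haveI : Flat (Spec.map (X.presheaf.germ U y hxU)) := by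
    rw [HasRingHomProperty.Spec_iff (P := @Flat)]
    show RingHom.Flat (algebraMap Γ(X, U) (X.presheaf.stalk y))
    rw [RingHom.flat_algebraMap_iff]
    exact IsLocalization.flat _ (hU.primeIdealOf ⟨y, hxU⟩).asIdeal.primeCompl
  exact MorphismProperty.comp_mem @Flat (Spec.map (X.presheaf.germ U y hxU)) hU.fromSpec inferInstance inferInstance

/-- **Trivial on the punctured local scheme gives a section generating at all proper generisations.** -/
theorem exists_gen_punctured [IsLocallyNoetherian X] (M : X.Modules) {y : X} {V' W : X.Opens}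
    (hV' : IsAffineOpen V') (hy : y ∈ V') (hWV : W ≤ V') (hyW : y ∉ W)
    (hgen : ∀ z : X, z ⤳ y → z ≠ y → z ∈ W) (hM : ∀ w ∈ W, ParaPair.GenNear M w)
    (hPic : ParaF.PicTrivial (FEt.puncturedSpec (X.presheaf.stalk y) : Scheme.{u})) :
    ∃ (Λ : X.Opens) (hΛ : Λ ≤ W) (e : Γ(M, W)),
      (∀ z : X, z ⤳ y → z ≠ y → z ∈ Λ) ∧ IsGen M Λ (mres M hΛ e) := by
  haveI : IsAffine (V' : Scheme.{u}) := hV'
  haveI : IsNoetherian (V' : Scheme.{u}) := {}
  let f : (W : Scheme.{u}) ⟶ (V' : Scheme.{u}) := X.homOfLE hWV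
  haveI : NoetherianSpace (W : Scheme.{u}) := f.isOpenEmbedding.isInducing.noetherianSpace
  haveI : CompactSpace (W : Scheme.{u}) := inferInstance
  haveI : QuasiSeparatedSpace (W : Scheme.{u}) := inferInstance
  let A := X.presheaf.stalk y
  let φ := X.fromSpecStalk y
  let P : (Spec A).Opens := φ ⁻¹ᵁ W
  have hP : P = FEt.puncturedSpec A := by
    ext z
    show φ z ∈ W ↔ z ≠ IsLocalRing.closedPoint A
    constructor
    · rintro h rfl
      exact hyW (Scheme.fromSpecStalk_closedPoint (X := X) (x := y) ▸ h)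
    · exact fun h => hgen _ (fromSpecStalk_specializes y z) fun e => h ((fromSpecStalk_eq_iff y z).1 e)
  have hPic' : ParaF.PicTrivial (P : Scheme.{u}) := hP ▸ hPic
  let q : Spec A ⟶ (V' : Scheme.{u}) := IsOpenImmersion.lift V'.ι φ (by
    rw [V'.range_ι]
    rintro _ ⟨z, rfl⟩
    exact (fromSpecStalk_specializes y z).mem_open V'.2 hy)
  have hq : q ≫ V'.ι = φ := IsOpenImmersion.lift_fac _ _ _
  haveI : Flat q := by
    haveI : Flat (q ≫ V'.ι) := hq ▸ flat_fromSpecStalk y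
    exact MorphismProperty.of_postcomp (W := @Flat) (W' := @IsOpenImmersion) q V'.ι inferInstance inferInstance
  let k : (P : Scheme.{u}) ⟶ (W : Scheme.{u}) := φ ∣_ W
  have sq : IsPullback k P.ι f q := by
    refine isPullback_of_comp_mono V'.ι ?_
    rw [Scheme.homOfLE_ι, hq]
    exact isPullback_morphismRestrict φ W
  have hloc : ∀ r : Γ(Spec A, ⊤), ∃ s a : Γ((V' : Scheme.{u}), ⊤), IsUnit (q.appLE ⊤ ⊤ le_top s) ∧
      q.appLE ⊤ ⊤ le_top s * r = q.appLE ⊤ ⊤ le_top a := by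
    intro r
    letI : Algebra Γ(X, V') A := (X.presheaf.germ V' y hy).hom.toAlgebra
    haveI : IsLocalization.AtPrime A (hV'.primeIdealOf ⟨y, hy⟩).asIdeal := hV'.isLocalization_stalk ⟨y, hy⟩
    obtain ⟨⟨a, s⟩, e⟩ := IsLocalization.surj (hV'.primeIdealOf ⟨y, hy⟩).asIdeal.primeCompl
      ((Scheme.ΓSpecIso A).hom r)
    have key : ∀ t : Γ(X, V'), q.appLE ⊤ ⊤ le_top (V'.ι.appLE V' ⊤ (fun z _ => z.2) t) =
        (Scheme.ΓSpecIso A).inv (algebraMap Γ(X, V') A t) := fun t => by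
      rw [← CategoryTheory.comp_apply, Scheme.Hom.appLE_comp_appLE]
      have hcongr : ∀ {g g' : Spec A ⟶ X} (hg : g = g') (h₁ : (⊤ : (Spec A).Opens) ≤ g ⁻¹ᵁ V')
          (h₂ : (⊤ : (Spec A).Opens) ≤ g' ⁻¹ᵁ V'), g.appLE V' ⊤ h₁ t = g'.appLE V' ⊤ h₂ t := by
        intro g g' hg h₁ h₂
        subst hg
        rfl
      rw [hcongr hq _ (fun z _ => (fromSpecStalk_specializes y z).mem_open V'.2 hy)]
      rw [Scheme.Hom.appLE, Scheme.fromSpecStalk_app hy]
      simp only [Category.assoc, ← Functor.map_comp]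
      rw [CategoryTheory.comp_apply, CategoryTheory.comp_apply]
      have hid : ∀ {U : (Opens (Spec A))ᵒᵖ} (i : op (⊤ : (Spec A).Opens) ⟶ U) (j : U ⟶ op ⊤) (w : Γ(Spec A, ⊤)),
          ((Spec A).presheaf.map i ≫ (Spec A).presheaf.map j) w = w := fun i j w => by
        rw [← Functor.map_comp, Subsingleton.elim (i ≫ j) (𝟙 _), CategoryTheory.Functor.map_id]; rfl
      exact hid _ _ _
    refine ⟨V'.ι.appLE V' ⊤ (fun z _ => z.2) s.1, V'.ι.appLE V' ⊤ (fun z _ => z.2) a, ?_, ?_⟩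
    · rw [key]
      exact (IsLocalization.map_units A s).map (Scheme.ΓSpecIso A).inv.hom
    · have hr : r = (Scheme.ΓSpecIso A).inv ((Scheme.ΓSpecIso A).hom r) := (Iso.hom_inv_id_apply _ r).symm
      rw [key, key, hr, ← map_mul, mul_comm, e]
  let N := M.restrict W.ι
  have hN : PicF.IsInvertible N := ParaPair.isInvertible_iff.2 fun w =>
    ParaPair.genNear_of_push W.ι ((ParaPair.genNear_unit_iff W.ι M ⟨w, rfl⟩).2 (hM _ w.2))
  obtain ⟨c, ⟨ε⟩⟩ := Ample.exists_cocycle hN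
  obtain ⟨d⟩ := c.nonempty_pullback_iso k ε
  obtain ⟨τ⟩ := hPic' ((Scheme.Modules.pullback k).obj N) (Ample.isInvertible_pullback k hN)
  obtain ⟨b, hb⟩ := (c.comap k).exists_sect_of_section d τ.inv
  have hgen' : CohB1.genLocus _ τ.inv = ⊤ :=
    eq_top_iff.2 (le_sSup (show IsIso ((Scheme.Modules.restrictFunctor (⊤ : (P : Scheme.{u}).Opens).ι).map τ.inv) from inferInstance))
  obtain ⟨a, ha⟩ := c.exists_le_preimage_locus k sq hloc b
  rw [hb, hgen'] at ha
  let L₀ := c.locus a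
  let sN : Γ(N, L₀) := ε.inv.app L₀ (c.sectRes (le_top : L₀ ≤ ⊤) a)
  have hsN : IsGen N L₀ sN := isGen_of_bijective ε.hom
    (fun T _ => ConcreteCategory.bijective_of_isIso _) (c.isGen_locus a)
    (by
      show ε.hom.app L₀ (ε.inv.app L₀ _) = _
      rw [← CategoryTheory.comp_apply, ← Scheme.Modules.Hom.comp_app, Iso.inv_hom_id]
      rfl)
  let Λ : X.Opens := W.ι ''ᵁ L₀
  have hΛ : Λ ≤ W := (W.ι.image_le_opensRange _).trans_eq (Scheme.Opens.opensRange_ι W)
  let η := (Scheme.Modules.restrictAdjunction W.ι).unit.app M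
  have hbij : ∀ T ≤ W, Function.Bijective (η.app T) := by
    intro T hT
    rw [Scheme.Modules.restrictAdjunction_unit_app_app]
    exact (ParaPair.bijective_mres_congr M _ (le_refl T) (by
      rw [Scheme.Hom.image_preimage_eq_opensRange_inf, Scheme.Opens.opensRange_ι, inf_eq_right.2 hT])).2
      ⟨fun s t h => by simpa [InvExt.mres_self] using h, fun s => ⟨s, InvExt.mres_self M s⟩⟩
  obtain ⟨e, he⟩ := (hbij W le_rfl).2 (show Γ(N, W.ι ⁻¹ᵁ W) from
    ε.inv.app (W.ι ⁻¹ᵁ W) (c.sectRes le_top a))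
  refine ⟨Λ, hΛ, e, fun z hz hzy => ?_, ?_⟩
  · obtain ⟨z', rfl⟩ : z ∈ Set.range φ := by rw [Scheme.range_fromSpecStalk]; exact hz
    have hz' : z' ∈ P := hgen _ hz hzy
    have := ha (show (⟨z', hz'⟩ : P) ∈ (⊤ : (P : Scheme.{u}).Opens) from trivial)
    refine ⟨k ⟨z', hz'⟩, this, ?_⟩
    show (k ≫ W.ι) (⟨z', hz'⟩ : P) = φ z'
    rw [morphismRestrict_ι]
    rfl
  · have hpre : W.ι ⁻¹ᵁ Λ = L₀ := W.ι.preimage_image_eq L₀
    refine isGen_of_bijective η (fun T hT => hbij T (hT.trans hΛ))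
      (e := (show Γ(N, W.ι ⁻¹ᵁ Λ) from mres N hpre.le sN))
      ((ParaPair.isGen_push_iff W.ι N (hΛ.trans_eq (Scheme.Opens.opensRange_ι W).symm) _).2 (hsN.restrict hpre.le)) ?_
    refine (Ample.app_mres η hΛ e).trans ((congrArg (mres _ hΛ) he).trans ?_)
    show mres N (W.ι.preimage_mono hΛ) (ε.inv.app (W.ι ⁻¹ᵁ W) (c.sectRes le_top a)) =
      mres N hpre.le (ε.inv.app L₀ (c.sectRes (le_top : L₀ ≤ ⊤) a))
    rw [← Ample.app_mres, ← Ample.app_mres]
    congr 1
    exact (c.sectRes_sectRes le_top (W.ι.preimage_mono hΛ) a).trans (c.sectRes_sectRes le_top hpre.le a).symm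

end GrothLib.ParaLocal
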