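import Groth.Agent.Lib.AmpleDesc.Sections
import Groth.Agent.Lib.Ample.Criterion
import Groth.Agent.Lib.ParaPair.Local

/-!
# Sections of invertible modules around a point and on the punctured local scheme at it
-/

set_option autoImplicit false
set_option linter.all false
set_option backward.isDefEq.respectTransparency false
set_option maxHeartbeats 1000000

universe u

open CategoryTheory CategoryTheory.Limits AlgebraicGeometry Opposite TopologicalSpace
open GrothLib.InvExt (IsGen)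

noncomputable section

namespace GrothLib.Ample.Cocycle

variable {X Y : Scheme.{u}} (c : Cocycle X) (j : Y ⟶ X) {n : ℕ}

theorem isGen_locus (a : c.sect n ⊤) :
    IsGen (c.twist n) (c.locus a) (c.sectRes (le_top : c.locus a ≤ ⊤) a) := by
  intro T hT
  have h := c.bijective_hom_app a hT
  refine (funext fun r => ?_ : (fun r : Γ(X, T) => r • InvExt.mres (c.twist n) hT (c.sectRes le_top a)) =
    fun r : Γ(X, T) => (c.hom a).val.app (op T) r) ▸ h
  refine Eq.trans ?_ (c.hom_app_apply a T r).symm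
  exact congrArg (fun t : c.sect n T => r • t) (c.sectRes_sectRes le_top hT a)

/-- When the base change is a localisation, a family upstairs is a unit multiple of a pulled-back family. -/
theorem exists_le_preimage_locus {S S' : Scheme.{u}} [IsAffine S] [IsAffine S'] [CompactSpace X]
    [QuasiSeparatedSpace X] {f : X ⟶ S} {f' : Y ⟶ S'} {g : S' ⟶ S} [Flat g] (h : IsPullback j f' f g)
    (hloc : ∀ r : Γ(S', ⊤), ∃ s a : Γ(S, ⊤), IsUnit (g.appLE ⊤ ⊤ le_top s) ∧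
      g.appLE ⊤ ⊤ le_top s * r = g.appLE ⊤ ⊤ le_top a)
    (b : (c.comap j).sect n ⊤) :
    ∃ a : c.sect n ⊤, (c.comap j).locus b ≤ j ⁻¹ᵁ c.locus a := by
  obtain ⟨θ, hθ⟩ := c.exists_pullback_compat j n
  haveI : (c.twist n).IsQuasicoherent := InvExt.isQuasicoherent_of_isInvertible (c.isInvertible_twist n)
  let P : Y.Opens := FlatBC.upU j f' ⊤ ⊤
  have hP : P = ⊤ := eq_top_iff.mpr fun y _ => ⟨trivial, trivial⟩
  have hqs : IsQuasiSeparated ((f ⁻¹ᵁ (⊤ : S.Opens) : X.Opens) : Set X) := by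
    rw [Scheme.Hom.preimage_top]
    exact isQuasiSeparated_univ_iff.2 inferInstance
  have hflat : (g.appLE ⊤ ⊤ (le_top : (⊤ : S'.Opens) ≤ g ⁻¹ᵁ ⊤)).hom.Flat :=
    HasRingHomProperty.appLE (P := @Flat) g inferInstance ⟨⊤, isAffineOpen_top S⟩ ⟨⊤, isAffineOpen_top S'⟩ _
  obtain ⟨-, hs⟩ := FlatBC.bij_of_isCompact h (c.twist n) (V := ⊤) (W := ⊤) le_top (isAffineOpen_top S)
    (isAffineOpen_top S') hflat hqs (U := ⊤) isCompact_univ le_top
  let b' : Γ((Scheme.Modules.pullback j).obj (c.twist n), P) :=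
    θ.inv.app P ((c.comap j).sectRes (le_top : P ≤ ⊤) b)
  letI : Algebra Γ(S, ⊤) Γ(S', ⊤) := (g.appLE ⊤ ⊤ le_top).hom.toAlgebra
  letI : Module Γ(S, ⊤) (FlatBC.secM f' ((Scheme.Modules.pullback j).obj (c.twist n)) ⊤ P inf_le_right) :=
    Module.compHom _ (g.appLE ⊤ ⊤ le_top).hom
  haveI : IsScalarTower Γ(S, ⊤) Γ(S', ⊤)
      (FlatBC.secM f' ((Scheme.Modules.pullback j).obj (c.twist n)) ⊤ P inf_le_right) :=
    IsScalarTower.of_algebraMap_smul fun _ _ => rfl
  let p := FlatBC.pullHom h (c.twist n) (V := ⊤) (W := ⊤) le_top (U := ⊤) le_top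
  have key : ∀ z, ∃ (v : Γ(S', ⊤)) (m : FlatBC.secM f (c.twist n) ⊤ ⊤ le_top),
      (∃ s : Γ(S, ⊤), v = g.appLE ⊤ ⊤ le_top s) ∧ IsUnit v ∧ v • p.liftBaseChange Γ(S', ⊤) z = p m := by
    intro z
    induction z using TensorProduct.induction_on with
    | zero => exact ⟨1, 0, ⟨1, (map_one _).symm⟩, isUnit_one, by rw [map_zero, map_zero, smul_zero]⟩
    | tmul r m =>
      obtain ⟨s, a, hu, he⟩ := hloc r
      refine ⟨g.appLE ⊤ ⊤ le_top s, a • m, ⟨s, rfl⟩, hu, ?_⟩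
      rw [LinearMap.liftBaseChange_tmul, smul_smul, he, map_smul]
      rfl
    | add z₁ z₂ h₁ h₂ =>
      obtain ⟨v₁, m₁, ⟨s₁, rfl⟩, hu₁, e₁⟩ := h₁
      obtain ⟨v₂, m₂, ⟨s₂, rfl⟩, hu₂, e₂⟩ := h₂
      refine ⟨g.appLE ⊤ ⊤ le_top s₁ * g.appLE ⊤ ⊤ le_top s₂, s₂ • m₁ + s₁ • m₂, ⟨s₁ * s₂, (map_mul _ _ _).symm⟩,
        hu₁.mul hu₂, ?_⟩
      rw [map_add, smul_add, map_add, map_smul, map_smul, ← e₁, ← e₂]
      rw [← algebraMap_smul Γ(S', ⊤) s₂, ← algebraMap_smul Γ(S', ⊤) s₁, smul_smul, smul_smul]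
      congr 1
      exact congrArg (fun t : Γ(S', ⊤) => t • _) (mul_comm _ _)
  obtain ⟨z, hz⟩ := hs b'
  obtain ⟨v, m, -, hv, e⟩ := key z
  rw [hz] at e
  refine ⟨(show c.sect n ⊤ from m), fun y hy => ?_⟩
  have e' := congrArg (fun t => (show (c.comap j).sect n P from
    θ.hom.app P (show Γ((Scheme.Modules.pullback j).obj (c.twist n), P) from t))) e
  erw [FlatBC.secM_smul, app_smul, hθ ⊤ P inf_le_left] at e'
  have eb : θ.hom.app P b' = (c.comap j).sectRes (le_top : P ≤ ⊤) b := by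
    simp only [b', ← CategoryTheory.comp_apply, ← Scheme.Modules.Hom.comp_app, Iso.inv_hom_id]
    rfl
  erw [eb] at e'
  obtain ⟨i, hi⟩ := (c.comap j).exists_mem y
  have hy' := ((c.comap j).mem_locus_iff b hi).mp hy
  have e2 := congrArg (fun t : (c.comap j).sect n P => Y.basicOpen (t.1 i)) e'
  have hu : IsUnit ((f'.app ⊤).hom v) := hv.map (f'.app ⊤).hom
  have hy2 : y ∈ Y.basicOpen ((c.pullSect j (inf_le_left : P ≤ j ⁻¹ᵁ ⊤) (show c.sect n ⊤ from m)).1 i) := by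
    refine (SetLike.ext_iff.mp e2 y).mp ?_
    erw [smul_apply, Scheme.basicOpen_mul, Scheme.basicOpen_res, sectRes_apply, Scheme.basicOpen_res,
      Scheme.basicOpen_of_isUnit _ hu]
    have hyP : y ∈ P := ⟨trivial, trivial⟩
    refine ⟨⟨⟨hyP, hi⟩, hyP, trivial⟩, ?_⟩
    erw [Scheme.basicOpen_res]
    exact ⟨⟨hyP, hi⟩, hy'⟩
  erw [pullSect_apply, Scheme.basicOpen_appLE] at hy2
  exact (c.mem_locus_iff (show c.sect n ⊤ from m) (i := i) hi).mpr hy2.2

end GrothLib.Ample.Cocycle
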