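import Groth.Agent.Lib.ParaLocal.SpreadSec
import Groth.Agent.Lib.Ample.Coprod

/-!
# Invertible modules on opens of the local scheme at a point spread out
-/

set_option autoImplicit false
set_option linter.all false
set_option backward.isDefEq.respectTransparency false
set_option maxHeartbeats 1000000

universe u

open CategoryTheory CategoryTheory.Limits AlgebraicGeometry Opposite TopologicalSpace
open GrothLib.Ample (res res_res res_self res_appLE appLE_res)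

noncomputable section

namespace GrothLib.ParaLocal

variable {X : Scheme.{u}} {V' : X.Opens} (hV' : IsAffineOpen V') {y : X} (hy : y ∈ V')

include hV' hy in
/-- Finitely many nearby neighbourhoods have a common refinement. -/
theorem exists_common_nhd {κ : Type*} [Finite κ] {P : κ → X.Opens → Prop}
    (hmono : ∀ k H H', H' ≤ H → P k H → P k H') (h : ∀ k, ∃ H : X.Opens, y ∈ H ∧ P k H) :
    ∃ H : X.Opens, y ∈ H ∧ H ≤ V' ∧ ∀ k, P k H := by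
  choose H hyH hP using h
  exact ⟨V' ⊓ ⟨⋂ k, (H k : Set X), isOpen_iInter_of_finite fun k => (H k).2⟩, ⟨hy, Set.mem_iInter.2 hyH⟩,
    inf_le_left, fun k => hmono k (H k) _ (fun z hz => Set.mem_iInter.1 hz.2 k) (hP k)⟩

include hV' hy in
/-- Functions on the local scheme over a basic open are defined near the point. -/
theorem exists_lift_open {P : (Spec (X.presheaf.stalk y)).Opens} (b : Γ(X, V'))
    (hb : X.fromSpecStalk y ⁻¹ᵁ X.basicOpen b ≤ P)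
    (v : Γ((P : Scheme.{u}), (P.ι ≫ X.fromSpecStalk y) ⁻¹ᵁ X.basicOpen b)) :
    ∃ (H : X.Opens) (t : Γ(X, X.basicOpen b ⊓ H)), y ∈ H ∧
      ∀ (T : (P : Scheme.{u}).Opens) (e : T ≤ (P.ι ≫ X.fromSpecStalk y) ⁻¹ᵁ (X.basicOpen b ⊓ H)),
        (P.ι ≫ X.fromSpecStalk y).appLE _ T e t = res (fun z hz => (e hz).1) v := by
  obtain ⟨r, hr⟩ := (Ample.bijective_appLE_of_eq P.ι (hb.trans (Scheme.Opens.opensRange_ι P).ge)
    (rfl : (P.ι ≫ X.fromSpecStalk y) ⁻¹ᵁ X.basicOpen b = P.ι ⁻¹ᵁ (X.fromSpecStalk y ⁻¹ᵁ X.basicOpen b))).2 v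
  obtain ⟨H, t, e₀, hyH, ht⟩ := exists_lift hV' hy b r
  refine ⟨H, t, hyH, fun T e => ?_⟩
  have e' : T ≤ (P.ι ≫ X.fromSpecStalk y) ⁻¹ᵁ X.basicOpen b := fun z hz => (e hz).1
  rw [← hr, res_appLE, ← ht, ← CommRingCat.comp_apply, Scheme.Hom.appLE_comp_appLE]

include hV' hy in
/-- Functions near the point vanishing on the local scheme vanish nearby. -/
theorem exists_eq_zero_open {P : (Spec (X.presheaf.stalk y)).Opens} (b : Γ(X, V'))
    (hb : X.fromSpecStalk y ⁻¹ᵁ X.basicOpen b ≤ P) (v : Γ(X, X.basicOpen b))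
    (hv : ∀ (T : (P : Scheme.{u}).Opens) (e : T ≤ (P.ι ≫ X.fromSpecStalk y) ⁻¹ᵁ X.basicOpen b),
      (P.ι ≫ X.fromSpecStalk y).appLE _ T e v = 0) :
    ∃ H : X.Opens, y ∈ H ∧ res (inf_le_left : X.basicOpen b ⊓ H ≤ X.basicOpen b) v = 0 := by
  refine exists_eq_zero hV' hy b v ?_
  apply (Ample.bijective_appLE_of_eq P.ι (hb.trans (Scheme.Opens.opensRange_ι P).ge) rfl).1
  rw [map_zero, ← CommRingCat.comp_apply, Scheme.Hom.appLE_comp_appLE]
  exact hv _ _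

include hV' hy in
/-- **An invertible module on a quasi-compact open of the local scheme at a point spreads out.** -/
theorem exists_spread (P : (Spec (X.presheaf.stalk y)).Opens) (hP : IsLocalRing.closedPoint _ ∉ P)
    (hPc : IsCompact (P : Set (Spec (X.presheaf.stalk y)))) (L : (P : Scheme.{u}).Modules)
    (hL : PicF.IsInvertible L) :
    ∃ (W : X.Opens) (k : (P : Scheme.{u}) ⟶ (W : Scheme.{u})) (LW : (W : Scheme.{u}).Modules),
      W ≤ V' ∧ X.fromSpecStalk y ⁻¹ᵁ W = P ∧ k ≫ W.ι = P.ι ≫ X.fromSpecStalk y ∧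
      PicF.IsInvertible LW ∧ Nonempty ((Scheme.Modules.pullback k).obj LW ≅ L) := by
  let A := X.presheaf.stalk y
  let φ := X.fromSpecStalk y
  letI : Algebra Γ(X, V') A := (X.presheaf.germ V' y hy).hom.toAlgebra
  haveI : IsLocalization.AtPrime A (hV'.primeIdealOf ⟨y, hy⟩).asIdeal := hV'.isLocalization_stalk ⟨y, hy⟩
  obtain ⟨c₀, ⟨ε⟩⟩ := Ample.exists_cocycle hL
  -- basic opens of the base trivialising `L`
  have hloc : ∀ p : P, ∃ (a : Γ(X, V')) (i : c₀.ι),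
      p.1 ∈ φ ⁻¹ᵁ X.basicOpen a ∧ φ ⁻¹ᵁ X.basicOpen a ≤ P.ι ''ᵁ c₀.D i := by
    intro p
    obtain ⟨i, hi⟩ := c₀.exists_mem p
    obtain ⟨_, ⟨_, ⟨α, rfl⟩, rfl⟩, hpα, hαD⟩ := PrimeSpectrum.isBasis_basic_opens.exists_subset_of_mem_open
      (a := p.1) (u := ((P.ι ''ᵁ c₀.D i : (Spec A).Opens) : Set (Spec A))) ⟨p, hi, rfl⟩
      (P.ι ''ᵁ c₀.D i).2
    obtain ⟨⟨a, s⟩, has⟩ := IsLocalization.surj (hV'.primeIdealOf ⟨y, hy⟩).asIdeal.primeCompl α
    have e : φ ⁻¹ᵁ X.basicOpen a = PrimeSpectrum.basicOpen α := by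
      rw [preimage_basicOpen_fromSpecStalk hy a]
      have : X.presheaf.germ V' y hy a = α * algebraMap Γ(X, V') A s.1 := has.symm
      rw [this, map_mul, Scheme.basicOpen_mul,
        Scheme.basicOpen_of_isUnit _ ((IsLocalization.map_units A s).map (Scheme.ΓSpecIso A).inv.hom),
        inf_top_eq, basicOpen_eq_of_affine', Iso.inv_hom_id_apply]
    exact ⟨a, i, by rw [e]; exact hpα, by rw [e]; exact hαD⟩
  choose a σ hpa haD using hloc
  obtain ⟨κ, hκ⟩ := hPc.elim_finite_subcover (fun p : P => ((φ ⁻¹ᵁ X.basicOpen (a p) : (Spec A).Opens) : Set (Spec A)))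
    (fun p => (φ ⁻¹ᵁ X.basicOpen (a p)).2) (fun z hz => Set.mem_iUnion.2 ⟨⟨z, hz⟩, hpa ⟨z, hz⟩⟩)
  have hleP : ∀ p, φ ⁻¹ᵁ X.basicOpen (a p) ≤ P := fun p =>
    (haD p).trans ((P.ι.image_le_opensRange _).trans_eq (Scheme.Opens.opensRange_ι P))
  let ψ : (P : Scheme.{u}) ⟶ X := P.ι ≫ φ
  have hD : ∀ p, ψ ⁻¹ᵁ X.basicOpen (a p) ≤ c₀.D (σ p) := by
    intro p z hz
    obtain ⟨z', hz', e⟩ := haD p (show P.ι z ∈ φ ⁻¹ᵁ X.basicOpen (a p) from hz)
    rwa [P.ι.isOpenEmbedding.injective e] at hz'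
  -- lifting the transition functions
  have hlift : ∀ q : κ × κ, ∃ H : X.Opens, y ∈ H ∧
      ∃ t : Γ(X, X.basicOpen (a q.1) ⊓ X.basicOpen (a q.2) ⊓ H),
        ∀ (T : (P : Scheme.{u}).Opens) (e : T ≤ ψ ⁻¹ᵁ (X.basicOpen (a q.1) ⊓ X.basicOpen (a q.2) ⊓ H)),
          ψ.appLE _ T e t = c₀.G (σ q.1) (σ q.2) (fun z hz => hD _ (e hz).1.1) (fun z hz => hD _ (e hz).1.2) := by
    intro q
    have hT₀ : X.basicOpen (a q.1.1 * a q.2.1) = X.basicOpen (a q.1) ⊓ X.basicOpen (a q.2) := X.basicOpen_mul _ _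
    obtain ⟨H, t, hyH, ht⟩ := exists_lift_open hV' hy (P := P) (a q.1.1 * a q.2.1)
      ((φ.preimage_mono (hT₀.trans_le inf_le_left)).trans (hleP q.1))
      (c₀.G (σ q.1) (σ q.2) (W := ψ ⁻¹ᵁ X.basicOpen (a q.1.1 * a q.2.1))
        (fun z hz => hD _ (hT₀.trans_le inf_le_left hz)) (fun z hz => hD _ (hT₀.trans_le inf_le_right hz)))
    refine ⟨H, hyH, res (inf_le_inf_right H hT₀.ge) t, fun T e => ?_⟩
    rw [appLE_res, ht T, Ample.Cocycle.res_G]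
  obtain ⟨H₁, hy₁, -, hH₁⟩ := exists_common_nhd hV' hy (P := fun (q : κ × κ) H =>
      ∃ t : Γ(X, X.basicOpen (a q.1) ⊓ X.basicOpen (a q.2) ⊓ H),
        ∀ (T : (P : Scheme.{u}).Opens) (e : T ≤ ψ ⁻¹ᵁ (X.basicOpen (a q.1) ⊓ X.basicOpen (a q.2) ⊓ H)),
          ψ.appLE _ T e t = c₀.G (σ q.1) (σ q.2) (fun z hz => hD _ (e hz).1.1) (fun z hz => hD _ (e hz).1.2))
    (fun q H H' hle ⟨t, ht⟩ => ⟨res (inf_le_inf_left _ hle) t, fun T e => by
      erw [appLE_res]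
      exact ht T _⟩) hlift
  choose t ht using hH₁
  let G₁ : ∀ (l m : κ) {W : X.Opens}, W ≤ X.basicOpen (a l) → W ≤ X.basicOpen (a m) → W ≤ H₁ → Γ(X, W) :=
    fun l m {W} hl hm hH => res (le_inf (le_inf hl hm) hH) (t (l, m))
  have hG₁ : ∀ (l m : κ) {W : X.Opens} (hl : W ≤ X.basicOpen (a l)) (hm : W ≤ X.basicOpen (a m)) (hH : W ≤ H₁)
      {T : (P : Scheme.{u}).Opens} (e : T ≤ ψ ⁻¹ᵁ W),
      ψ.appLE W T e (G₁ l m hl hm hH) = c₀.G (σ l) (σ m) (fun z hz => hD _ (hl (e hz))) (fun z hz => hD _ (hm (e hz))) := by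
    intro l m W hl hm hH T e
    erw [appLE_res]
    exact ht (l, m) T _
  -- the identities hold near the point
  have hid1 : ∀ l : κ, ∃ H : X.Opens, y ∈ H ∧ ∀ (W : X.Opens) (hl : W ≤ X.basicOpen (a l)) (hH : W ≤ H₁),
      W ≤ H → G₁ l l hl hl hH = 1 := by
    intro l
    obtain ⟨H₀, hH₀, hy₀⟩ : ∃ b : Γ(X, V'), X.basicOpen b ≤ H₁ ∧ y ∈ X.basicOpen b :=
      hV'.exists_basicOpen_le (V := H₁) ⟨y, hy₁⟩ hy
    let T := X.basicOpen (a l.1 * H₀)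
    have hTl : T ≤ X.basicOpen (a l) := (X.basicOpen_mul _ _).trans_le inf_le_left
    have hTH : T ≤ H₁ := ((X.basicOpen_mul _ _).trans_le inf_le_right).trans hH₀
    obtain ⟨H, hyH, hv⟩ := exists_eq_zero_open hV' hy (P := P) (a l.1 * H₀) ((φ.preimage_mono hTl).trans (hleP l)) (G₁ l l hTl hTl hTH - 1) (fun T' e => by rw [map_sub, hG₁ l l hTl hTl hTH e, map_one, c₀.G_self, sub_self])
    refine ⟨H ⊓ X.basicOpen H₀, ⟨hyH, hy₀⟩, fun W hl hH hW => ?_⟩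
    have hWT : W ≤ T ⊓ H := le_inf ((le_inf hl (hW.trans inf_le_right)).trans (X.basicOpen_mul _ _).ge)
      (hW.trans inf_le_left)
    have := congrArg (res hWT) hv
    simp only [G₁, map_sub, map_one, map_zero, sub_eq_zero] at this ⊢
    erw [res_res, res_res] at this
    exact this
  have hid2 : ∀ q : κ × κ × κ, ∃ H : X.Opens, y ∈ H ∧ ∀ (W : X.Opens) (h1 : W ≤ X.basicOpen (a q.1))
      (h2 : W ≤ X.basicOpen (a q.2.1)) (h3 : W ≤ X.basicOpen (a q.2.2)) (hH : W ≤ H₁),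
      W ≤ H → G₁ q.1 q.2.2 h1 h3 hH = G₁ q.1 q.2.1 h1 h2 hH * G₁ q.2.1 q.2.2 h2 h3 hH := by
    intro q
    obtain ⟨H₀, hH₀, hy₀⟩ : ∃ b : Γ(X, V'), X.basicOpen b ≤ H₁ ∧ y ∈ X.basicOpen b :=
      hV'.exists_basicOpen_le (V := H₁) ⟨y, hy₁⟩ hy
    let T := X.basicOpen (a q.1.1 * a q.2.1.1 * a q.2.2.1 * H₀)
    have eT : T = X.basicOpen (a q.1) ⊓ X.basicOpen (a q.2.1) ⊓ X.basicOpen (a q.2.2) ⊓ X.basicOpen H₀ := by
      simp only [T, Scheme.basicOpen_mul]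
    have g1 : T ≤ X.basicOpen (a q.1) := eT.trans_le (inf_le_left.trans (inf_le_left.trans inf_le_left))
    have g2 : T ≤ X.basicOpen (a q.2.1) := eT.trans_le (inf_le_left.trans (inf_le_left.trans inf_le_right))
    have g3 : T ≤ X.basicOpen (a q.2.2) := eT.trans_le (inf_le_left.trans inf_le_right)
    have g4 : T ≤ H₁ := (eT.trans_le inf_le_right).trans hH₀
    obtain ⟨H, hyH, hv⟩ := exists_eq_zero_open hV' hy (P := P) (a q.1.1 * a q.2.1.1 * a q.2.2.1 * H₀)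
      ((φ.preimage_mono g1).trans (hleP q.1))
      (G₁ q.1 q.2.2 g1 g3 g4 - G₁ q.1 q.2.1 g1 g2 g4 * G₁ q.2.1 q.2.2 g2 g3 g4)
      (fun T' e => by
        rw [map_sub, map_mul, hG₁ q.1 q.2.2 g1 g3 g4 e, hG₁ q.1 q.2.1 g1 g2 g4 e, hG₁ q.2.1 q.2.2 g2 g3 g4 e,
          ← c₀.G_trans, sub_self])
    refine ⟨H ⊓ X.basicOpen H₀, ⟨hyH, hy₀⟩, fun W h1 h2 h3 hH hW => ?_⟩
    have hWT : W ≤ T ⊓ H := le_inf ((le_inf (le_inf (le_inf h1 h2) h3) (hW.trans inf_le_right)).trans eT.ge)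
      (hW.trans inf_le_left)
    have := congrArg (res hWT) hv
    simp only [G₁, map_sub, map_mul, map_zero, sub_eq_zero] at this ⊢
    erw [res_res, res_res, res_res, res_res, res_res, res_res] at this
    exact this
  obtain ⟨H₂, hy₂, -, hH₂⟩ := exists_common_nhd hV' hy (P := fun (l : κ) H =>
      ∀ (W : X.Opens) (hl : W ≤ X.basicOpen (a l)) (hH : W ≤ H₁), W ≤ H → G₁ l l hl hl hH = 1)
    (fun l H H' hle h W hl hH hW => h W hl hH (hW.trans hle)) hid1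
  obtain ⟨H₃, hy₃, hH₃V, hH₃⟩ := exists_common_nhd hV' hy (P := fun (q : κ × κ × κ) H =>
      ∀ (W : X.Opens) (h1 : W ≤ X.basicOpen (a q.1)) (h2 : W ≤ X.basicOpen (a q.2.1))
      (h3 : W ≤ X.basicOpen (a q.2.2)) (hH : W ≤ H₁),
      W ≤ H → G₁ q.1 q.2.2 h1 h3 hH = G₁ q.1 q.2.1 h1 h2 hH * G₁ q.2.1 q.2.2 h2 h3 hH)
    (fun q H H' hle h W h1 h2 h3 hH hW => h W h1 h2 h3 hH (hW.trans hle)) hid2
  -- the cocycle
  let H : X.Opens := H₁ ⊓ H₂ ⊓ H₃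
  have hyH : y ∈ H := ⟨⟨hy₁, hy₂⟩, hy₃⟩
  let D : κ → X.Opens := fun l => X.basicOpen (a l) ⊓ H
  let W : X.Opens := ⨆ l, D l
  have hW : φ ⁻¹ᵁ W = P := by
    refine le_antisymm ?_ fun z hz => ?_
    · rw [Scheme.Hom.preimage_iSup]
      exact iSup_le fun l => (φ.preimage_mono inf_le_left).trans (hleP l)
    · obtain ⟨p, hp, hzp⟩ := Set.mem_iUnion₂.1 (hκ hz)
      exact Opens.mem_iSup.2 ⟨⟨p, hp⟩, hzp, (fromSpecStalk_specializes y z).mem_open H.2 hyH⟩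
  have hH1 : ∀ l, D l ≤ H₁ := fun l => inf_le_right.trans (inf_le_left.trans inf_le_left)
  let g : ∀ l m : κ, Γ(X, D l ⊓ D m) := fun l m =>
    G₁ l m (inf_le_left.trans inf_le_left) (inf_le_right.trans inf_le_left) (inf_le_left.trans (hH1 l))
  have key : ∀ {T : (W : Scheme.{u}).Opens} {Z : X.Opens}, T ≤ W.ι ⁻¹ᵁ Z → W.ι ''ᵁ T ≤ Z := fun h => by
    rintro _ ⟨z, hz, rfl⟩
    exact h hz
  have hres : ∀ (l m : κ) {V : X.Opens} (h : V ≤ D l ⊓ D m) (hl : V ≤ X.basicOpen (a l))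
      (hm : V ≤ X.basicOpen (a m)) (hH : V ≤ H₁), res h (g l m) = G₁ l m hl hm hH := fun l m V h hl hm hH => by
    simp only [g, G₁, res_res]
  let c : Ample.Cocycle (W : Scheme.{u}) :=
    { ι := κ
      D := fun l => W.ι ⁻¹ᵁ D l
      g := fun l m => (W.ι.appLE (D l ⊓ D m) (W.ι ⁻¹ᵁ D l ⊓ W.ι ⁻¹ᵁ D m) le_rfl).hom (g l m)
      cover := by rw [← Scheme.Hom.preimage_iSup, Scheme.Opens.ι_preimage_self]
      self := fun l T hT => by
        have hT' : W.ι ''ᵁ T ≤ D l := key hT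
        have eT : T ≤ W.ι ⁻¹ᵁ (W.ι ''ᵁ T) := (W.ι.preimage_image_eq T).ge
        rw [res_appLE, ← appLE_res W.ι (le_inf hT' hT') eT,
          hres l l _ (hT'.trans inf_le_left) (hT'.trans inf_le_left) (hT'.trans (hH1 l)),
          hH₂ l _ (hT'.trans inf_le_left) (hT'.trans (hH1 l))
            (hT'.trans (inf_le_right.trans (inf_le_left.trans inf_le_right))), map_one]
      change := fun i j l T hi hj hl => by
        have hi' : W.ι ''ᵁ T ≤ D i := key hi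
        have hj' : W.ι ''ᵁ T ≤ D j := key hj
        have hl' : W.ι ''ᵁ T ≤ D l := key hl
        have eT : T ≤ W.ι ⁻¹ᵁ (W.ι ''ᵁ T) := (W.ι.preimage_image_eq T).ge
        rw [res_appLE, res_appLE, res_appLE, ← appLE_res W.ι (le_inf hi' hl') eT,
          ← appLE_res W.ι (le_inf hi' hj') eT, ← appLE_res W.ι (le_inf hj' hl') eT,
          hres i l _ (hi'.trans inf_le_left) (hl'.trans inf_le_left) (hi'.trans (hH1 i)),
          hres i j _ (hi'.trans inf_le_left) (hj'.trans inf_le_left) (hi'.trans (hH1 i)),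
          hres j l _ (hj'.trans inf_le_left) (hl'.trans inf_le_left) (hi'.trans (hH1 i)), ← map_mul,
          hH₃ (i, j, l) _ (hi'.trans inf_le_left) (hj'.trans inf_le_left) (hl'.trans inf_le_left)
            (hi'.trans (hH1 i)) (hi'.trans (inf_le_right.trans inf_le_right))] }
  let k : (P : Scheme.{u}) ⟶ (W : Scheme.{u}) := IsOpenImmersion.lift W.ι ψ (by
    rw [W.range_ι]
    rintro _ ⟨z, rfl⟩
    show φ (P.ι z) ∈ W
    have : P.ι z ∈ φ ⁻¹ᵁ W := by rw [hW]; exact z.2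
    exact this)
  have hk : k ≫ W.ι = ψ := IsOpenImmersion.lift_fac _ _ _
  refine ⟨W, k, c.twist 1, iSup_le fun l => inf_le_left.trans (X.basicOpen_le _), hW, hk,
    c.isInvertible_twist 1, ?_⟩
  obtain ⟨d⟩ := c.nonempty_pullback_twist k 1
  have hle : ∀ l : κ, k ⁻¹ᵁ (W.ι ⁻¹ᵁ D l) ≤ c₀.D (σ l) := fun l z hz => hD _ (by
    show ψ z ∈ X.basicOpen (a l)
    rw [← hk]
    exact hz.1)
  obtain ⟨d'⟩ := (c.comap k).nonempty_refine_iso c₀ (fun l : κ => σ l) hle (fun l m T hl hm => by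
    rw [Ample.Cocycle.comap_G]
    show (k.appLE (W.ι ⁻¹ᵁ D l ⊓ W.ι ⁻¹ᵁ D m) T _).hom ((W.ι.appLE (D l ⊓ D m) _ le_rfl).hom (g l m)) = _
    erw [← CommRingCat.comp_apply, Scheme.Hom.appLE_comp_appLE]
    have hcongr : ∀ {φ₁ φ₂ : (P : Scheme.{u}) ⟶ X} (hg : φ₁ = φ₂) (h₁ : T ≤ φ₁ ⁻¹ᵁ (D l ⊓ D m))
        (h₂ : T ≤ φ₂ ⁻¹ᵁ (D l ⊓ D m)), φ₁.appLE (D l ⊓ D m) T h₁ (g l m) = φ₂.appLE (D l ⊓ D m) T h₂ (g l m) := by
      intro φ₁ φ₂ hg h₁ h₂
      subst hg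
      rfl
    exact (hcongr hk _ (hk ▸ le_inf hl hm)).trans (hG₁ l m (inf_le_left.trans inf_le_left) (inf_le_right.trans inf_le_left) (inf_le_left.trans (hH1 l)) (hk ▸ le_inf hl hm))) 1
  exact ⟨d ≪≫ d' ≪≫ ε.symm⟩

end GrothLib.ParaLocal
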