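import Groth.Agent.Lib.ParaLocal.Point

/-!
# Functions on basic opens of an affine neighbourhood and on the local scheme at a point
-/

set_option autoImplicit false
set_option linter.all false
set_option backward.isDefEq.respectTransparency false
set_option maxHeartbeats 1000000

universe u

open CategoryTheory CategoryTheory.Limits AlgebraicGeometry Opposite TopologicalSpace
open GrothLib.Ample (res res_res res_self res_appLE appLE_res)

noncomputable section

namespace GrothLib.ParaLocal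

variable {X : Scheme.{u}} {V' : X.Opens} (hV' : IsAffineOpen V') {y : X} (hy : y ∈ V')

include hy in
theorem le_preimage_fromSpecStalk : (⊤ : (Spec (X.presheaf.stalk y)).Opens) ≤ X.fromSpecStalk y ⁻¹ᵁ V' :=
  fun z _ => (fromSpecStalk_specializes y z).mem_open V'.2 hy

include hy in
theorem appLE_fromSpecStalk (a : Γ(X, V')) :
    (X.fromSpecStalk y).appLE V' ⊤ (le_preimage_fromSpecStalk hy) a =
      (Scheme.ΓSpecIso (X.presheaf.stalk y)).inv (X.presheaf.germ V' y hy a) := by
  rw [Scheme.Hom.appLE, Scheme.fromSpecStalk_app hy]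
  simp only [Category.assoc]
  rw [CategoryTheory.comp_apply, CategoryTheory.comp_apply]
  have hid : ∀ {U : (Opens (Spec (X.presheaf.stalk y)))ᵒᵖ} (i : op (⊤ : (Spec (X.presheaf.stalk y)).Opens) ⟶ U)
      (j : U ⟶ op ⊤) (w : Γ(Spec (X.presheaf.stalk y), ⊤)),
      ((Spec (X.presheaf.stalk y)).presheaf.map i ≫ (Spec (X.presheaf.stalk y)).presheaf.map j) w = w :=
    fun i j w => by
      rw [← Functor.map_comp, Subsingleton.elim (i ≫ j) (𝟙 _), CategoryTheory.Functor.map_id]; rfl
  exact hid _ _ _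

include hy in
theorem preimage_basicOpen_fromSpecStalk (a : Γ(X, V')) :
    X.fromSpecStalk y ⁻¹ᵁ X.basicOpen a =
      (Spec (X.presheaf.stalk y)).basicOpen
        ((Scheme.ΓSpecIso (X.presheaf.stalk y)).inv (X.presheaf.germ V' y hy a)) := by
  rw [← appLE_fromSpecStalk hy, Scheme.basicOpen_appLE, top_inf_eq]

include hV' hy in
theorem exists_unit_nhd (s : Γ(X, V')) (hs : IsUnit (X.presheaf.germ V' y hy s)) :
    ∃ H : X.Opens, y ∈ H ∧ ∃ hH : H ≤ V', IsUnit (res hH s) :=
  ⟨X.basicOpen s, (X.mem_basicOpen s y hy).2 hs, X.basicOpen_le s,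
    RingedSpace.isUnit_res_basicOpen X.toRingedSpace s⟩

include hV' hy in
/-- A function on a basic open vanishing on the local scheme vanishes near the point. -/
theorem exists_eq_zero (a : Γ(X, V')) (t : Γ(X, X.basicOpen a))
    (ht : (X.fromSpecStalk y).appLE (X.basicOpen a) (X.fromSpecStalk y ⁻¹ᵁ X.basicOpen a) le_rfl t = 0) :
    ∃ H : X.Opens, y ∈ H ∧ res (inf_le_left : X.basicOpen a ⊓ H ≤ X.basicOpen a) t = 0 := by
  let A := X.presheaf.stalk y
  haveI := hV'.isLocalization_basicOpen a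
  obtain ⟨⟨c, ⟨_, n, rfl⟩⟩, hc⟩ := IsLocalization.surj (Submonoid.powers a) t
  let ā : Γ(Spec A, ⊤) := (Scheme.ΓSpecIso A).inv (X.presheaf.germ V' y hy a)
  have hc' : (X.fromSpecStalk y).appLE (X.basicOpen a) (X.fromSpecStalk y ⁻¹ᵁ X.basicOpen a) le_rfl
      (algebraMap Γ(X, V') Γ(X, X.basicOpen a) c) = 0 := by
    rw [← hc, map_mul, ht, zero_mul]
  haveI := (isAffineOpen_top (Spec A)).isLocalization_basicOpen ā
  have h0 : algebraMap Γ(Spec A, ⊤) Γ(Spec A, (Spec A).basicOpen ā)
      ((Scheme.ΓSpecIso A).inv (X.presheaf.germ V' y hy c)) = 0 := by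
    rw [← appLE_fromSpecStalk hy]
    show res _ ((X.fromSpecStalk y).appLE V' ⊤ _ c) = 0
    rw [res_appLE]
    have h := congrArg (res (preimage_basicOpen_fromSpecStalk hy a).ge) hc'
    rw [map_zero, res_appLE] at h
    rw [← h]
    exact (appLE_res (X.fromSpecStalk y) (X.basicOpen_le a) _ c).symm
  obtain ⟨⟨_, m, rfl⟩, hm⟩ := (IsLocalization.map_eq_zero_iff (Submonoid.powers ā) _ _).1 h0
  have hm' : X.presheaf.germ V' y hy (a ^ m * c) = X.presheaf.germ V' y hy 0 := by
    rw [map_zero, map_mul, map_pow]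
    apply (ConcreteCategory.bijective_of_isIso (Scheme.ΓSpecIso A).inv).1
    rw [map_mul, map_pow, map_zero]
    exact hm
  obtain ⟨H, hyH, i₁, i₂, e⟩ := X.presheaf.germ_eq y hy hy _ _ hm'
  refine ⟨H, hyH, ?_⟩
  have e' : res (leOfHom i₁) (a ^ m * c) = 0 := by
    have : X.presheaf.map i₁.op (a ^ m * c) = 0 := e.trans (map_zero _)
    exact this
  have h := congrArg (res (inf_le_left : X.basicOpen a ⊓ H ≤ X.basicOpen a)) hc
  rw [map_mul] at h
  have hc0 : res (inf_le_left : X.basicOpen a ⊓ H ≤ X.basicOpen a) (algebraMap Γ(X, V') Γ(X, X.basicOpen a) c) = 0 := by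
    have h1 := congrArg (res (inf_le_right : X.basicOpen a ⊓ H ≤ H)) e'
    rw [map_zero, res_res, map_mul, map_pow] at h1
    have hu : IsUnit (res ((inf_le_right : X.basicOpen a ⊓ H ≤ H).trans (leOfHom i₁)) a) := by
      have := (RingedSpace.isUnit_res_basicOpen X.toRingedSpace a).map
        (res (inf_le_left : X.basicOpen a ⊓ H ≤ X.basicOpen a))
      erw [res_res] at this
      exact this
    rw [(hu.pow m).mul_right_eq_zero] at h1
    show res _ (res _ c) = 0
    rw [res_res]
    exact h1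
  rw [hc0] at h
  refine ((IsUnit.map _ ?_).mul_left_eq_zero).1 h
  exact IsLocalization.map_units Γ(X, X.basicOpen a) (⟨_, n, rfl⟩ : Submonoid.powers a)

include hV' hy in
/-- A function on the local scheme over a basic open comes from a neighbourhood of the point. -/
theorem exists_lift (a : Γ(X, V')) (r : Γ(Spec (X.presheaf.stalk y), X.fromSpecStalk y ⁻¹ᵁ X.basicOpen a)) :
    ∃ (H : X.Opens) (t : Γ(X, X.basicOpen a ⊓ H))
      (e : X.fromSpecStalk y ⁻¹ᵁ X.basicOpen a ≤ X.fromSpecStalk y ⁻¹ᵁ (X.basicOpen a ⊓ H)),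
      y ∈ H ∧ (X.fromSpecStalk y).appLE _ _ e t = r := by
  let A := X.presheaf.stalk y
  letI : Algebra Γ(X, V') A := (X.presheaf.germ V' y hy).hom.toAlgebra
  haveI : IsLocalization.AtPrime A (hV'.primeIdealOf ⟨y, hy⟩).asIdeal := hV'.isLocalization_stalk ⟨y, hy⟩
  let ā : Γ(Spec A, ⊤) := (Scheme.ΓSpecIso A).inv (X.presheaf.germ V' y hy a)
  have hpre : X.fromSpecStalk y ⁻¹ᵁ X.basicOpen a = (Spec A).basicOpen ā := preimage_basicOpen_fromSpecStalk hy a
  haveI := (isAffineOpen_top (Spec A)).isLocalization_basicOpen ā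
  obtain ⟨⟨α, ⟨_, n, rfl⟩⟩, hα⟩ := IsLocalization.surj (Submonoid.powers ā) (res hpre.ge r)
  obtain ⟨⟨c, s⟩, hcs⟩ := IsLocalization.surj (hV'.primeIdealOf ⟨y, hy⟩).asIdeal.primeCompl ((Scheme.ΓSpecIso A).hom α)
  obtain ⟨H, hyH, hHV, hu⟩ := exists_unit_nhd hV' hy s.1 (IsLocalization.map_units A s)
  let T : X.Opens := X.basicOpen a ⊓ H
  have hTV : T ≤ V' := inf_le_left.trans (X.basicOpen_le a)
  have hua : IsUnit (res hTV a) := by
    have := (RingedSpace.isUnit_res_basicOpen X.toRingedSpace a).map (res (inf_le_left : T ≤ X.basicOpen a))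
    erw [res_res] at this
    exact this
  have hus : IsUnit (res hTV s.1) := by
    have := hu.map (res (inf_le_right : T ≤ H))
    erw [res_res] at this
    exact this
  obtain ⟨w, hw⟩ := ((hua.pow n).mul hus).exists_right_inv
  have e : X.fromSpecStalk y ⁻¹ᵁ X.basicOpen a ≤ X.fromSpecStalk y ⁻¹ᵁ T := fun z hz =>
    ⟨hz, (fromSpecStalk_specializes y z).mem_open H.2 hyH⟩
  refine ⟨H, res hTV c * w, e, hyH, ?_⟩
  let Φ := ((X.fromSpecStalk y).appLE T (X.fromSpecStalk y ⁻¹ᵁ X.basicOpen a) e).hom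
  show Φ (res hTV c * w) = r
  have key : ∀ v : Γ(X, V'), Φ (res hTV v) = res (le_top : X.fromSpecStalk y ⁻¹ᵁ X.basicOpen a ≤ ⊤)
      ((Scheme.ΓSpecIso A).inv (X.presheaf.germ V' y hy v)) := fun v => by
    rw [← appLE_fromSpecStalk hy, res_appLE]
    exact appLE_res _ _ _ _
  have h1 : r * res le_top ā ^ n = res le_top α := by
    have := congrArg (res hpre.le) hα
    rw [map_mul] at this
    erw [res_res, res_self, res_res, map_pow, res_res] at this
    exact this
  have h2 : α * (Scheme.ΓSpecIso A).inv (X.presheaf.germ V' y hy s.1) =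
      (Scheme.ΓSpecIso A).inv (X.presheaf.germ V' y hy c) := by
    have := congrArg (Scheme.ΓSpecIso A).inv hcs
    rw [map_mul, Iso.hom_inv_id_apply] at this
    exact this
  have h3 := congrArg (res (le_top : X.fromSpecStalk y ⁻¹ᵁ X.basicOpen a ≤ ⊤)) h2
  rw [map_mul, ← key s.1, ← key c] at h3
  have h4 := congrArg Φ hw
  rw [map_mul, map_mul, map_pow, key a, map_one] at h4
  rw [map_mul, ← h3, ← h1]
  linear_combination r * h4

end GrothLib.ParaLocal
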